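import Mathlib
import Groth.Prelude.Def_FlatMod2
import Groth.Prelude.Def_StMod
import Groth.Agent.LocFree.Props
import Groth.Agent.QC.Coherent

/-!
# Locally free modules of finite type in Mathlib's sense are the finite locally free modules
-/

universe u

open CategoryTheory CategoryTheory.Limits AlgebraicGeometry TopologicalSpace Opposite

noncomputable section

set_option autoImplicit false
set_option backward.isDefEq.respectTransparency false
set_option backward.isDefEq.respectTransparency.types false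
set_option linter.style.haveILetI false

namespace Groth.Agent.FppfModDesc

open Groth.Agent.QC

variable {X : Scheme.{u}} {M : X.Modules}

theorem isIso_ofEpi_π {C : Type*} [Category C] {J : GrothendieckTopology C} {R : Sheaf J RingCat.{u}}
    [HasWeakSheafify J AddCommGrpCat.{u}] [J.WEqualsLocallyBijective AddCommGrpCat.{u}]
    {M N : SheafOfModules.{u} R} (σ : M.GeneratingSections) (p : M ⟶ N) [Epi p] (hp : IsIso p)
    (hσ : IsIso σ.π) : IsIso (σ.ofEpi p).π := by
  rw [SheafOfModules.GeneratingSections.ofEpi_π]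
  infer_instance

theorem isIso_map_π {C : Type*} [Category C] {J : GrothendieckTopology C} {R : Sheaf J RingCat.{u}}
    [HasWeakSheafify J AddCommGrpCat.{u}] [J.WEqualsLocallyBijective AddCommGrpCat.{u}]
    {C' : Type*} [Category C'] {J' : GrothendieckTopology C'} {S : Sheaf J' RingCat.{u}}
    [HasSheafify J' AddCommGrpCat.{u}] [J'.WEqualsLocallyBijective AddCommGrpCat.{u}]
    {M : SheafOfModules.{u} R} (σ : M.GeneratingSections)
    (F : SheafOfModules.{u} R ⥤ SheafOfModules.{u} S) [PreservesColimitsOfSize.{u, u} F]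
    (η : SheafOfModules.unit S ≅ F.obj (SheafOfModules.unit R)) (hσ : IsIso σ.π) : IsIso (σ.map F η).π :=
  inferInstance

theorem isIso_overOfGen_π {U : X.Opens} (σ : SheafOfModules.GeneratingSections.{u} (M.restrict U.ι))
    (hσ : IsIso σ.π) : IsIso (overOfGen σ).π :=
  isIso_ofEpi_π _ (overInvIso M U).hom (Iso.isIso_hom _) (isIso_map_π σ _ _ hσ)

theorem isIso_genOfOver_π {U : X.Opens} (σ : (SheafOfModules.over.{u} M U).GeneratingSections)
    (hσ : IsIso σ.π) : IsIso (genOfOver σ).π :=
  isIso_ofEpi_π _ (overIso M U).hom (Iso.isIso_hom _) (isIso_map_π σ _ _ hσ)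

/-- Mathlib's free module on `ULift (Fin n)` is the free module of rank `n`. -/
def freeFinIso (Y : Scheme.{u}) (n : ℕ) :
    (show Y.Modules from SheafOfModules.free.{u} (R := Y.ringCatSheaf) (ULift.{u} (Fin n))) ≅ FlatMod.freeMod Y n :=
  Sigma.whiskerEquiv (f := fun _ : ULift.{u} (Fin n) => Coh.structureModule Y)
      (g := fun _ : Fin n => Coh.structureModule Y) Equiv.ulift (fun _ => Iso.refl _)

/-- The generators given by a trivialisation. -/
def genOfTriv {U : X.Opens} {n : ℕ} (e : M.restrict U.ι ≅ FlatMod.freeMod (U : Scheme.{u}) n) :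
    SheafOfModules.GeneratingSections.{u} (M.restrict U.ι) :=
  (SheafOfModules.free.generatingSections (R := (U : Scheme.{u}).ringCatSheaf) (ULift.{u} (Fin n))).ofEpi
    ((freeFinIso (U : Scheme.{u}) n ≪≫ e.symm).hom :
      SheafOfModules.free.{u} (R := (U : Scheme.{u}).ringCatSheaf) (ULift.{u} (Fin n)) ⟶ M.restrict U.ι)

theorem isIso_genOfTriv_π {U : X.Opens} {n : ℕ} (e : M.restrict U.ι ≅ FlatMod.freeMod (U : Scheme.{u}) n) :
    IsIso (genOfTriv e).π :=
  isIso_ofEpi_π _ _ (Iso.isIso_hom _) inferInstance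

theorem genData_generators {ι : Type u} (W : ι → X.Opens) (h : ∀ x : X, ∃ i, x ∈ W i)
    (σ : ∀ i, SheafOfModules.GeneratingSections.{u} (M.restrict (W i).ι)) (i : ι) :
    (genData (M := M) W h σ).generators i = overOfGen (σ i) := rfl

theorem isLocallyFree_of_data (q : SheafOfModules.LocalGeneratorsData.{u} (R := X.ringCatSheaf) M)
    (hq : ∀ i, IsIso (q.generators i).π) : SheafOfModules.IsLocallyFree (R := X.ringCatSheaf) M :=
  have := SheafOfModules.LocalGeneratorsData.IsLocallyFreeData.mk (q := q) hq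
  SheafOfModules.LocalGeneratorsData.isLocallyFree (R := X.ringCatSheaf) q

theorem isLocallyFree_of_genData {ι : Type u} (W : ι → X.Opens) (h : ∀ x : X, ∃ i, x ∈ W i)
    (σ : ∀ i, SheafOfModules.GeneratingSections.{u} (M.restrict (W i).ι)) (hσ : ∀ i, IsIso (σ i).π) :
    SheafOfModules.IsLocallyFree (R := X.ringCatSheaf) M := by
  refine isLocallyFree_of_data (genData (M := M) W h σ) fun i => ?_
  have h1 := isIso_overOfGen_π (σ i) (hσ i)
  rw [← genData_generators W h σ i] at h1
  exact h1

/-- A finite locally free module is locally free in Mathlib's sense. -/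
theorem isLocallyFree_of_isFinLocFree (h : FlatMod.IsFinLocFree M) :
    SheafOfModules.IsLocallyFree (R := X.ringCatSheaf) M := by
  choose U n hx e using h
  exact isLocallyFree_of_genData U (fun x => ⟨x, hx x⟩) (fun x => genOfTriv (e x).some)
    (fun x => isIso_genOfTriv_π (e x).some)

theorem free_sections_of_iso_free {W : X.Opens} {I : Type u}
    (e : M.restrict W.ι ≅ SheafOfModules.free.{u} (R := (W : Scheme.{u}).ringCatSheaf) I)
    {D : X.Opens} (hD : IsAffineOpen D) (hDW : D ≤ W) : Module.Free Γ(X, D) Γ(M, D) := by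
  let ι' : Spec Γ(X, D) ⟶ (W : Scheme.{u}) :=
    IsOpenImmersion.lift W.ι hD.fromSpec (by rw [hD.range_fromSpec, Scheme.Opens.range_ι]; exact hDW)
  have hι : ι' ≫ W.ι = hD.fromSpec := IsOpenImmersion.lift_fac _ _ _
  haveI : IsOpenImmersion (ι' ≫ W.ι) := by rw [hι]; infer_instance
  haveI : IsOpenImmersion ι' := IsOpenImmersion.of_comp ι' W.ι
  haveI := StMod.opensMap_final ι'
  let e' : M.restrict hD.fromSpec ≅ SheafOfModules.free.{u} (R := (Spec Γ(X, D)).ringCatSheaf) I :=
    (Scheme.Modules.restrictFunctorCongr hι).symm.app M ≪≫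
      (Scheme.Modules.restrictFunctorComp ι' W.ι).app M ≪≫
      (Scheme.Modules.restrictFunctor ι').mapIso e ≪≫
      (Scheme.Modules.restrictFunctorIsoPullback ι').app _ ≪≫
      SheafOfModules.pullbackObjFreeIso ι'.toRingCatSheafHom I
  let e'' : M.restrict hD.fromSpec ≅ tilde (ModuleCat.of Γ(X, D) (I →₀ Γ(X, D))) :=
    e' ≪≫ (tildeFinsupp (R := Γ(X, D)) I).symm
  let l : Γ(M, D) ≃ₗ[Γ(X, D)] (I →₀ Γ(X, D)) :=
    (topEquiv hD M).symm.trans (moduleSpecΓFunctor.mapIso e'' ≪≫
      (tilde.toTildeΓNatIso.app (ModuleCat.of Γ(X, D) (I →₀ Γ(X, D)))).symm).toLinearEquiv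
  exact Module.Free.of_equiv l.symm

/-- A locally free module of finite type is finite locally free. -/
theorem isFinLocFree_of_isLocallyFree (h : SheafOfModules.IsLocallyFree (R := X.ringCatSheaf) M)
    (hft : CohB1.IsFT M) : FlatMod.IsFinLocFree M := by
  have hM : Coh.IsQCoh M := inferInstanceAs (SheafOfModules.IsQuasicoherent (R := X.ringCatSheaf) M)
  obtain ⟨q, hq⟩ := h.exists_isLocallyFreeData
  refine LocFree.isFinLocFree_of_affine_free hM fun x => ?_
  obtain ⟨i, hi⟩ := exists_of_coversTop q.coversTop x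
  obtain ⟨D, hD, hxD, hDW⟩ := exists_isAffineOpen_mem_and_subset (X := X) (x := x) (U := q.X i) hi
  haveI := isIso_genOfOver_π _ (hq.isIso i)
  exact ⟨D, hD, hxD, free_sections_of_iso_free (asIso (genOfOver (q.generators i)).π).symm hD hDW,
    (isFT_iff_finite_sections (hM := hM)).mp hft ⟨D, hD⟩⟩

theorem isLocallyFree_and_isFT_iff :
    (SheafOfModules.IsLocallyFree (R := X.ringCatSheaf) M ∧ CohB1.IsFT M) ↔ FlatMod.IsFinLocFree M :=
  ⟨fun h => isFinLocFree_of_isLocallyFree h.1 h.2,
    fun h => ⟨isLocallyFree_of_isFinLocFree h, LocFree.isFT_of_isFinLocFree h⟩⟩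

end Groth.Agent.FppfModDesc
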