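import Mathlib
import Groth.Agent.FppfModDesc.Bridge
import Groth.Agent.QCDescent.Basic
import Groth.Agent.ModDesc.BaseChange

/-!
# Finiteness conditions on quasi-coherent modules descend along fppf coverings
-/

universe u

open CategoryTheory CategoryTheory.Limits AlgebraicGeometry TopologicalSpace Opposite TensorProduct

set_option autoImplicit false
set_option backward.isDefEq.respectTransparency false
set_option backward.isDefEq.respectTransparency.types false
set_option linter.style.haveILetI false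

namespace Groth.Agent.FppfModDesc

variable {X : Scheme.{u}} {R : Presieve X}

/-- Over an affine open, finitely many affine pieces of the members of an fppf covering form a jointly faithfully flat
family. -/
theorem exists_pieces (hR : R ∈ Scheme.fppfPrecoverage X) {U : X.Opens} (hU : IsAffineOpen U) :
    ∃ (κ : Type u) (_ : Fintype κ) (V : κ → Scheme.{u}) (g : ∀ k, V k ⟶ X) (W : ∀ k, (V k).affineOpens)
      (e : ∀ k, (W k).1 ≤ g k ⁻¹ᵁ U), (∀ k, R (g k)) ∧
      letI : ∀ k, Algebra Γ(X, U) Γ(V k, (W k).1) := fun k => ((g k).appLE U (W k).1 (e k)).hom.toAlgebra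
      (∀ k, Module.Flat Γ(X, U) Γ(V k, (W k).1)) ∧ Module.FaithfullyFlat Γ(X, U) (∀ k, Γ(V k, (W k).1)) := by
  classical
  obtain ⟨ι, Y, f, rfl⟩ := Presieve.exists_eq_ofArrows R
  obtain ⟨hsurj, hP⟩ := (Scheme.ofArrows_mem_precoverage_iff (P := @Flat ⊓ @LocallyOfFinitePresentation)).mp hR
  haveI : ∀ i, Flat (f i) := fun i => (hP i).1
  haveI : ∀ i, LocallyOfFinitePresentation (f i) := fun i => (hP i).2
  have hpt : ∀ x : U, ∃ (i : ι) (W : (Y i).affineOpens), W.1 ≤ f i ⁻¹ᵁ U ∧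
      x.1 ∈ (f i).base '' (W.1 : Set (Y i)) := fun x => by
    obtain ⟨i, y, hy⟩ := hsurj x.1
    obtain ⟨W, hW, hyW, hWU⟩ := exists_isAffineOpen_mem_and_subset (X := Y i) (x := y) (U := f i ⁻¹ᵁ U)
      (by show (f i).base y ∈ U; rw [hy]; exact x.2)
    exact ⟨i, ⟨W, hW⟩, hWU, y, hyW, hy⟩
  choose i W hWU hxW using hpt
  obtain ⟨t, ht⟩ := hU.isCompact.elim_finite_subcover
    (fun x : U => (f (i x)).base '' ((W x).1 : Set (Y (i x))))
    (fun x => (f (i x)).isOpenMap _ (W x).1.2)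
    (fun z hz => Set.mem_iUnion.mpr ⟨⟨z, hz⟩, hxW ⟨z, hz⟩⟩)
  let B : t → Type u := fun k => Γ(Y (i k.1), (W k.1).1)
  letI : ∀ k : t, Algebra Γ(X, U) (B k) := fun k => ((f (i k.1)).appLE U (W k.1).1 (hWU k.1)).hom.toAlgebra
  have hflat : ∀ k : t, Module.Flat Γ(X, U) (B k) := fun k => Flat.flat_appLE (f (i k.1)) hU (W k.1).2 (hWU k.1)
  refine ⟨t, inferInstance, fun k => Y (i k.1), fun k => f (i k.1), fun k => W k.1, fun k => hWU k.1,
    fun k => Presieve.ofArrows.mk (i k.1), hflat, ?_⟩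
  haveI : Module.Flat Γ(X, U) (∀ k, B k) := by haveI := hflat; exact QCDescent.flat_pi B
  refine Module.FaithfullyFlat.of_comap_surjective fun p => ?_
  have hpU : hU.fromSpec p ∈ U := by
    have : hU.fromSpec p ∈ Set.range hU.fromSpec := ⟨p, rfl⟩
    rwa [hU.range_fromSpec] at this
  obtain ⟨x, hxt, y, hyW, hy⟩ := Set.mem_iUnion₂.mp (ht hpU)
  let Q := (W x).2.primeIdealOf ⟨y, hyW⟩
  refine ⟨PrimeSpectrum.comap (Pi.evalRingHom B ⟨x, hxt⟩) Q, ?_⟩
  rw [← PrimeSpectrum.comap_comp_apply]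
  change PrimeSpectrum.comap ((f (i x)).appLE U (W x).1 (hWU x)).hom Q = p
  rw [IsAffineOpen.comap_primeIdealOf_appLE (f := f (i x)) U hU (W x).1 (W x).2 (hWU x) hyW]
  apply hU.fromSpec.isOpenEmbedding.injective
  rw [hU.fromSpec_primeIdealOf]
  exact hy

variable {F : X.Modules}

theorem finite_sections_of_cover (hF : Coh.IsQCoh F) (hR : R ∈ Scheme.fppfPrecoverage X)
    (h : ∀ ⦃V : Scheme.{u}⦄ (g : V ⟶ X), R g → CohB1.IsFT ((Scheme.Modules.pullback g).obj F))
    {U : X.Opens} (hU : IsAffineOpen U) : Module.Finite Γ(X, U) Γ(F, U) := by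
  classical
  obtain ⟨κ, _, V, g, W, e, hg, hflat, hff⟩ := exists_pieces hR hU
  letI : ∀ k, Algebra Γ(X, U) Γ(V k, (W k).1) := fun k => ((g k).appLE U (W k).1 (e k)).hom.toAlgebra
  haveI := hflat
  haveI := hff
  have hfin : ∀ k, Module.Finite Γ(V k, (W k).1) (Γ(V k, (W k).1) ⊗[Γ(X, U)] Γ(F, U)) := fun k => by
    obtain ⟨Φ, -⟩ := ModDesc.exists_bijective_liftBaseChange (g k) F (hH := hF) hU (W k).2 (e k)
    haveI := (QC.isFT_iff_finite_sections (hM := QC.isQCoh_pullback (g k) (hM := hF))).mp (h (g k) (hg k)) (W k)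
    exact Module.Finite.equiv Φ.symm
  haveI := QCDescent.finite_pi_tensor (fun k => Γ(V k, (W k).1)) Γ(F, U) hfin
  exact Module.Finite.of_finite_tensorProduct_of_faithfullyFlat (∀ k, Γ(V k, (W k).1))

/-- Finite type descends along fppf coverings. -/
theorem isFT_of_cover (hF : Coh.IsQCoh F) (hR : R ∈ Scheme.fppfPrecoverage X)
    (h : ∀ ⦃V : Scheme.{u}⦄ (g : V ⟶ X), R g → CohB1.IsFT ((Scheme.Modules.pullback g).obj F)) :
    CohB1.IsFT F :=
  (QC.isFT_iff_finite_sections (hM := hF)).mpr fun U => finite_sections_of_cover hF hR h U.2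

theorem finitePresentation_sections_of_cover (hF : Coh.IsQCoh F) (hR : R ∈ Scheme.fppfPrecoverage X)
    (h : ∀ ⦃V : Scheme.{u}⦄ (g : V ⟶ X), R g → CohB1.IsFP ((Scheme.Modules.pullback g).obj F))
    {U : X.Opens} (hU : IsAffineOpen U) : Module.FinitePresentation Γ(X, U) Γ(F, U) := by
  classical
  obtain ⟨κ, _, V, g, W, e, hg, hflat, hff⟩ := exists_pieces hR hU
  letI : ∀ k, Algebra Γ(X, U) Γ(V k, (W k).1) := fun k => ((g k).appLE U (W k).1 (e k)).hom.toAlgebra
  haveI := hflat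
  haveI := hff
  have hfp : ∀ k, Module.FinitePresentation Γ(V k, (W k).1) (Γ(V k, (W k).1) ⊗[Γ(X, U)] Γ(F, U)) := fun k => by
    obtain ⟨Φ, -⟩ := ModDesc.exists_bijective_liftBaseChange (g k) F (hH := hF) hU (W k).2 (e k)
    haveI := LocFree.finitePresentation_sections_of_isFP (QC.isQCoh_pullback (g k) (hM := hF)) (h (g k) (hg k))
      (W k).2
    exact Module.FinitePresentation.of_equiv Φ.symm
  exact QCDescent.finitePresentation_of_pi (fun k => Γ(V k, (W k).1)) Γ(F, U)
    (fun k => by haveI := hfp k; infer_instance) hfp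

/-- Finite presentation descends along fppf coverings. -/
theorem isFP_of_cover (hF : Coh.IsQCoh F) (hR : R ∈ Scheme.fppfPrecoverage X)
    (h : ∀ ⦃V : Scheme.{u}⦄ (g : V ⟶ X), R g → CohB1.IsFP ((Scheme.Modules.pullback g).obj F)) :
    CohB1.IsFP F := by
  refine QC.isFP_iff_exists_hasFinPres.mpr fun x => ?_
  obtain ⟨U, hU, hxU, -⟩ := exists_isAffineOpen_mem_and_subset (X := X) (x := x) (U := ⊤) trivial
  haveI := finitePresentation_sections_of_cover hF hR h hU
  exact ⟨U, hxU, QC.hasFinPres_of_finitePresentation hU (hM := hF)⟩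

/-- Being finite locally free descends along fppf coverings. -/
theorem isFinLocFree_of_cover (hF : Coh.IsQCoh F) (hR : R ∈ Scheme.fppfPrecoverage X)
    (h : ∀ ⦃V : Scheme.{u}⦄ (g : V ⟶ X), R g → FlatMod.IsFinLocFree ((Scheme.Modules.pullback g).obj F)) :
    FlatMod.IsFinLocFree F := by
  refine LocFree.isFinLocFree_of_affine_projective hF fun x => ?_
  obtain ⟨U, hU, hxU, -⟩ := exists_isAffineOpen_mem_and_subset (X := X) (x := x) (U := ⊤) trivial
  refine ⟨U, hU, hxU, finitePresentation_sections_of_cover hF hR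
    (fun _ g hg => LocFree.isFP_of_isFinLocFree (h g hg)) hU, ?_⟩
  classical
  obtain ⟨κ, _, V, g, W, e, hg, hflat, hff⟩ := exists_pieces hR hU
  letI : ∀ k, Algebra Γ(X, U) Γ(V k, (W k).1) := fun k => ((g k).appLE U (W k).1 (e k)).hom.toAlgebra
  haveI := hflat
  haveI := hff
  refine QCDescent.flat_of_pi (fun k => Γ(V k, (W k).1)) Γ(F, U) fun k => ?_
  obtain ⟨Φ, -⟩ := ModDesc.exists_bijective_liftBaseChange (g k) F (hH := hF) hU (W k).2 (e k)
  haveI := LocFree.projective_sections (h (g k) (hg k)) (W k).2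
  exact Module.Flat.of_linearEquiv Φ

end Groth.Agent.FppfModDesc
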