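import Mathlib
import Groth.Agent.FppfModDesc.Descent

/-!
# Morphisms of quasi-coherent modules are separated for fppf coverings
-/

universe u

open CategoryTheory CategoryTheory.Limits AlgebraicGeometry TopologicalSpace Opposite TensorProduct

set_option autoImplicit false
set_option backward.isDefEq.respectTransparency false
set_option backward.isDefEq.respectTransparency.types false
set_option linter.style.haveILetI false

namespace Groth.Agent.FppfModDesc

open Groth.Agent.QC

variable {X : Scheme.{u}} {R : Presieve X} {F G : X.Modules}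

/-- Two morphisms out of a quasi-coherent module into a quasi-coherent module which agree after pulling back along the
members of an fppf covering are equal. -/
theorem hom_ext_of_cover (hG : Coh.IsQCoh G) (hR : R ∈ Scheme.fppfPrecoverage X) (a b : F ⟶ G)
    (h : ∀ ⦃V : Scheme.{u}⦄ (g : V ⟶ X), R g →
      (Scheme.Modules.pullback g).map a = (Scheme.Modules.pullback g).map b) : a = b := by
  have key : ∀ U : X.Opens, IsAffineOpen U → ∀ s : Γ(F, U), a.app U s = b.app U s := by
    intro U hU s
    classical
    obtain ⟨κ, _, V, g, W, e, hg, hflat, hff⟩ := exists_pieces hR hU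
    letI : ∀ k, Algebra Γ(X, U) Γ(V k, (W k).1) := fun k => ((g k).appLE U (W k).1 (e k)).hom.toAlgebra
    haveI := hflat
    haveI := hff
    have hk : ∀ k, (1 : Γ(V k, (W k).1)) ⊗ₜ[Γ(X, U)] (a.app U s) = 1 ⊗ₜ b.app U s := fun k => by
      obtain ⟨Φ, hΦ⟩ := ModDesc.exists_bijective_liftBaseChange (g k) G (hH := hG) hU (W k).2 (e k)
      apply Φ.injective
      rw [hΦ, hΦ, ← ModDesc.app_pullSectLE, ← ModDesc.app_pullSectLE, h (g k) (hg k)]
    refine Module.FaithfullyFlat.tensorProduct_mk_injective (A := Γ(X, U)) (B := ∀ k, Γ(V k, (W k).1)) _ ?_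
    apply ((TensorProduct.comm _ _ _).trans (TensorProduct.piRight Γ(X, U) Γ(X, U) Γ(G, U)
      (fun k => Γ(V k, (W k).1)))).injective
    funext k
    simpa using congrArg (TensorProduct.comm Γ(X, U) Γ(V k, (W k).1) Γ(G, U)) (hk k)
  apply Scheme.Modules.hom_ext
  intro U
  ext s
  refine section_eq_of_locally fun x hx => ?_
  obtain ⟨D, hD, hxD, hDU⟩ := exists_isAffineOpen_mem_and_subset (X := X) (x := x) (U := U) hx
  exact ⟨D, hDU, hxD, by rw [app_res, app_res]; exact key D hD _⟩

end Groth.Agent.FppfModDesc
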