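import Mathlib
import Groth.Prelude.Def_TwSh
import Groth.Prelude.Def_QuotSh
import Groth.Agent.FppfModDesc.Descent
import Groth.Agent.QuotShLib.Fppf

/-!
# Finiteness of quasi-coherent modules along locally essentially surjective functors
-/

universe u

open CategoryTheory CategoryTheory.Limits AlgebraicGeometry Opposite

set_option autoImplicit false
set_option backward.isDefEq.respectTransparency false
set_option backward.isDefEq.respectTransparency.types false
set_option linter.style.haveILetI false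

namespace Groth.Agent.FppfModDesc

variable {S : Scheme.{u}} {𝒳 𝒴 : AlgSt.Cat S}

theorem castMod_prop {P : ∀ {X : Scheme.{u}}, X.Modules → Prop} {X T : Scheme.{u}} (h : X = T) (M : X.Modules) :
    P (StMod.castMod h M) ↔ P M := by
  subst h; rfl

theorem prop_of_castMod_iso {P : ∀ {X : Scheme.{u}}, X.Modules → Prop}
    (hiso : ∀ {X : Scheme.{u}} {M N : X.Modules}, (M ≅ N) → P M → P N)
    {X T V : Scheme.{u}} (h : X = T) (hT : T = V) {M : X.Modules}
    {Y : Scheme.{u}} {g : X ⟶ Y} {g' : V ⟶ Y} (hg : g = eqToHom (h.trans hT) ≫ g') {N : Y.Modules}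
    (e : (Scheme.Modules.pullback g).obj N ≅ M) (hM : P (StMod.castMod h M)) :
    P ((Scheme.Modules.pullback g').obj N) := by
  subst h hT
  rw [eqToHom_refl, Category.id_comp] at hg
  subst hg
  exact hiso e.symm hM

/-- A property of modules on schemes which descends along fppf coverings can be tested, for a cartesian quasi-coherent
module, after pulling back along a functor which is locally essentially surjective. -/
theorem prop_of_locSurjObj (P : ∀ {X : Scheme.{u}}, X.Modules → Prop)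
    (hiso : ∀ {X : Scheme.{u}} {M N : X.Modules}, (M ≅ N) → P M → P N)
    (hdesc : ∀ {X : Scheme.{u}} {R : Presieve X} {F : X.Modules}, Coh.IsQCoh F → R ∈ Scheme.fppfPrecoverage X →
      (∀ ⦃V : Scheme.{u}⦄ (g : V ⟶ X), R g → P ((Scheme.Modules.pullback g).obj F)) → P F)
    (π : 𝒳 ⥤ᵇ 𝒴) (hπ : Gerb.LocSurjObj (QuotSh.J Scheme.fppfPrecoverage S) π) (G : StMod.QCoh 𝒴)
    (h : ∀ x : 𝒳.obj, P (((StMod.comapQ π).obj G).obj.obj x)) (y : 𝒴.obj) : P (G.obj.obj y) := by
  obtain ⟨R, hR, hlift⟩ := hπ y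
  rw [GrothendieckTopology.mem_over_iff] at hR
  obtain ⟨Q, hQ, hle⟩ := Precoverage.mem_toGrothendieck_iff_of_isStableUnderComposition.1 hR
  refine hdesc (G.property.2 y) hQ fun Z g hg => ?_
  have hmem := (Sieve.overEquiv_iff _ _).1 (hle _ _ hg)
  obtain ⟨x, φ, hφ⟩ := hlift _ hmem
  have hdom : 𝒴.p.obj (π.obj x) = Over.mk (g ≫ (𝒴.p.obj y).hom) :=
    IsHomLift.domain_eq 𝒴.p (Over.homMk g rfl : Over.mk (g ≫ (𝒴.p.obj y).hom) ⟶ 𝒴.p.obj y) φ
  have hfac := IsHomLift.fac' 𝒴.p (Over.homMk g rfl : Over.mk (g ≫ (𝒴.p.obj y).hom) ⟶ 𝒴.p.obj y) φ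
  have hbmap : StMod.bmap 𝒴 φ = eqToHom (congrArg Comma.left hdom : StMod.sch 𝒴 (π.obj x) = Z) ≫ g := by
    rw [show StMod.bmap 𝒴 φ = (𝒴.p.map φ).left from rfl, hfac]
    simp [Over.eqToHom_left]
  haveI hiso' := G.property.1 φ (g := StMod.bmap 𝒴 φ) rfl
  let e := asIso (((Scheme.Modules.pullbackPushforwardAdjunction (StMod.bmap 𝒴 φ)).homEquiv (G.obj.obj y)
    (G.obj.obj (π.obj x))).symm (G.obj.map φ rfl))
  exact prop_of_castMod_iso hiso (StMod.sch_obj_eq π x)
    ((StMod.sch_obj_eq π x).symm.trans (congrArg Comma.left hdom : StMod.sch 𝒴 (π.obj x) = Z)) hbmap e (h x)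

end Groth.Agent.FppfModDesc
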