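import Mathlib
import Groth.Prelude.Def_TwSh
import Groth.Prelude.Def_AlgSt2
import Groth.Agent.FppfModDesc.Separated
import Groth.Agent.GerbLib.Basic

/-!
# Naturality of the inertial action, and locality of the twisting condition
-/

universe u

open CategoryTheory CategoryTheory.Limits AlgebraicGeometry Opposite

set_option autoImplicit false
set_option backward.isDefEq.respectTransparency false
set_option backward.isDefEq.respectTransparency.types false
set_option linter.style.haveILetI false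

namespace Groth.Agent.FppfModDesc

variable {S : Scheme.{u}} {𝒳 : AlgSt.Cat S} {A : (Over S)ᵒᵖ ⥤ GrpCat.{u}}

/-- The inertial actions commute with the comparison maps. -/
theorem inert_comp_map (F : StMod.Mod 𝒳) {ξ' ξ : 𝒳.obj} (φ : ξ' ⟶ ξ) (α' : Gerb.AutO ξ') (α : Gerb.AutO ξ)
    (h : α'.hom.1 ≫ φ = φ ≫ α.hom.1) :
    TwSh.inert F ξ α ≫ F.map φ rfl =
      F.map φ rfl ≫ (Scheme.Modules.pushforward (StMod.bmap 𝒳 φ)).map (TwSh.inert F ξ' α') := by
  apply Scheme.Modules.hom_ext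
  intro U
  ext s
  simp only [Scheme.Modules.Hom.comp_app, Scheme.Modules.pushforward_map_app]
  change (F.map φ rfl).app U ((TwSh.inert F ξ α).app U s) =
    (TwSh.inert F ξ' α').app _ ((F.map φ rfl).app U s)
  rw [TwSh.inert_app_apply, TwSh.inert_app_apply]
  have k1 := congrArg (fun f => (ConcreteCategory.hom f) s)
    (StMod.Mod.map_comp_app F φ α.hom.1 rfl (TwSh.bmap_autO ξ α) U)
  have k2 := congrArg (fun f => (ConcreteCategory.hom f) s)
    (StMod.Mod.map_comp_app F α'.hom.1 φ (TwSh.bmap_autO ξ' α') rfl U)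
  simp only at k1 k2
  have hg1 : StMod.bmap 𝒳 (φ ≫ α.hom.1) = StMod.bmap 𝒳 φ := by
    rw [StMod.bmap_comp, TwSh.bmap_autO, Category.comp_id]
  have hg2 : StMod.bmap 𝒳 (α'.hom.1 ≫ φ) = StMod.bmap 𝒳 φ := by
    rw [StMod.bmap_comp, TwSh.bmap_autO, Category.id_comp]
  have t1 := TwSh.map_app_heq F (φ ≫ α.hom.1) hg1 (g' := StMod.bmap 𝒳 φ ≫ 𝟙 _)
    (by rw [StMod.bmap_comp, TwSh.bmap_autO]) U s
  have t2 := TwSh.map_app_heq F (α'.hom.1 ≫ φ) hg2 (g' := 𝟙 _ ≫ StMod.bmap 𝒳 φ)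
    (by rw [StMod.bmap_comp, TwSh.bmap_autO]) U s
  have hc : ∀ {ψ ψ' : ξ' ⟶ ξ} (_ : ψ = ψ') (p : StMod.bmap 𝒳 ψ = StMod.bmap 𝒳 φ)
      (p' : StMod.bmap 𝒳 ψ' = StMod.bmap 𝒳 φ), (F.map ψ p).app U s = (F.map ψ' p').app U s := by
    rintro ψ _ rfl _ _; rfl
  exact ((eq_of_heq t1).trans k1).symm.trans ((hc h.symm hg1 hg2).trans ((eq_of_heq t2).trans k2))

/-- Comparison maps are linear over pullback of functions. -/
theorem scalarEnd_comp {X' X : Scheme.{u}} (g : X' ⟶ X) {M : X.Modules} {N : X'.Modules}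
    (m : M ⟶ (Scheme.Modules.pushforward g).obj N) (r : Γ(X, ⊤)) :
    TwSh.scalarEnd M r ≫ m = m ≫ (Scheme.Modules.pushforward g).map (TwSh.scalarEnd N (g.appTop r)) := by
  apply Scheme.Modules.hom_ext
  intro U
  ext s
  simp only [Scheme.Modules.Hom.comp_app, Scheme.Modules.pushforward_map_app]
  change m.app U ((TwSh.scalarEnd M r).app U s) = (TwSh.scalarEnd N (g.appTop r)).app (g ⁻¹ᵁ U) (m.app U s)
  rw [TwSh.scalarEnd_app_apply, TwSh.scalarEnd_app_apply, Scheme.Modules.Hom.app_smul]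
  show g.app U (TwSh.resTop X U r) • (show Γ(N, g ⁻¹ᵁ U) from m.app U s) = _
  congr 1
  exact congr($(g.naturality (homOfLE (le_top : U ≤ ⊤)).op) r)

/-- The twisting unit is natural. -/
theorem charUnit_map (χ : A ⟶ TwSh.GmPsh S) (d : ℤ) {ξ' ξ : 𝒳.obj} (φ : ξ' ⟶ ξ) (a : A.obj (op (𝒳.p.obj ξ))) :
    ((TwSh.charUnit χ ξ' (A.map (𝒳.p.map φ).op a) ^ d)⁻¹).val =
      (StMod.bmap 𝒳 φ).appTop ((TwSh.charUnit χ ξ a ^ d)⁻¹).val := by
  have h : TwSh.charUnit χ ξ' (A.map (𝒳.p.map φ).op a) =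
      Units.map ((StMod.bmap 𝒳 φ).appTop.hom.toMonoidHom) (TwSh.charUnit χ ξ a) :=
    congr($(χ.naturality (𝒳.p.map φ).op) a)
  rw [h, ← map_zpow, ← map_inv]
  rfl

variable {X : Over S} {π : 𝒳 ⥤ᵇ AlgSt.ofSch X}

/-- Pullback of an object of `𝒳` over a scheme mapping to the base. -/
theorem exists_fibre_piece (h𝒳 : FibCat.IsFibGrpd 𝒳.p) (η : (AlgSt.ofSch X).obj) [Flat η.sec.down.left]
    [LocallyOfFinitePresentation η.sec.down.left] (ξ : 𝒳.obj) :
    ∃ (ξ' : 𝒳.obj) (φ : ξ' ⟶ ξ) (_ : π.obj ξ' ⟶ η),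
      (@Flat ⊓ @LocallyOfFinitePresentation : MorphismProperty Scheme.{u}) (StMod.bmap 𝒳 φ) ∧
      ∀ (t : (StMod.sch 𝒳 ξ)) (y : η.base.left),
        η.sec.down.left.base y = (π.obj ξ).sec.down.left.base
          ((eqToHom (StMod.sch_obj_eq π ξ).symm).base t) → t ∈ Set.range (StMod.bmap 𝒳 φ).base := by
  have hb : (π.obj ξ).base = 𝒳.p.obj ξ := Functor.congr_obj π.w ξ
  let u := (π.obj ξ).sec.down
  let w := η.sec.down
  let W : Over S := Over.mk (pullback.fst u.left w.left ≫ (π.obj ξ).base.hom)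
  let q : W ⟶ (π.obj ξ).base := Over.homMk (pullback.fst u.left w.left) rfl
  let q₂ : W ⟶ η.base := Over.homMk (pullback.snd u.left w.left) (by
    rw [← Over.w w, ← pullback.condition_assoc, Over.w u]; rfl)
  obtain ⟨ξ', φ, hφ⟩ := GerbLib.lift_at h𝒳 rfl (q ≫ eqToHom hb)
  haveI := hφ
  have hW : 𝒳.p.obj ξ' = W := IsHomLift.domain_eq 𝒳.p (q ≫ eqToHom hb) φ
  have hb' : (π.obj ξ').base = W := (Functor.congr_obj π.w ξ').trans hW
  have hπφ : (π.map φ).hom = eqToHom hb' ≫ q := by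
    have h1 : (π.map φ).hom = _ := Functor.congr_hom π.w φ
    rw [h1, IsHomLift.fac' 𝒳.p (q ≫ eqToHom hb) φ]
    simp
  have hsec : (π.obj ξ').sec.down = (π.map φ).hom ≫ u := (congrArg ULift.down (π.map φ).map_sec).symm
  let α : π.obj ξ' ⟶ η := ⟨eqToHom hb' ≫ q₂, by
    refine ULift.ext _ _ ?_
    change (eqToHom hb' ≫ q₂) ≫ w = (π.obj ξ').sec.down
    rw [hsec, hπφ, Category.assoc, Category.assoc]
    congr 1
    exact Over.OverMorphism.ext pullback.condition.symm⟩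
  have hbm : StMod.bmap 𝒳 φ =
      eqToHom (congrArg Comma.left hW) ≫ pullback.fst u.left w.left ≫ eqToHom (congrArg Comma.left hb) := by
    rw [show StMod.bmap 𝒳 φ = (𝒳.p.map φ).left from rfl, IsHomLift.fac' 𝒳.p (q ≫ eqToHom hb) φ]
    simp [Over.eqToHom_left, q]
  refine ⟨ξ', φ, α, ?_, fun t y hy => ?_⟩
  · rw [hbm]
    exact ⟨inferInstance, inferInstance⟩
  · obtain ⟨z, hz1, -⟩ := Scheme.Pullback.exists_preimage_pullback (f := u.left) (g := w.left)
      ((eqToHom (congrArg Comma.left hb).symm).base t) y hy.symm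
    refine ⟨(eqToHom (congrArg Comma.left hW).symm).base z, ?_⟩
    have key : ∀ {A B C D : Scheme.{u}} (e₁ : A = B) (f : B ⟶ C) (e₂ : C = D) (z : B) (t : D),
        f.base z = (eqToHom e₂.symm).base t → (eqToHom e₁ ≫ f ≫ eqToHom e₂).base ((eqToHom e₁.symm).base z) = t := by
      intro A B C D e₁ f e₂ z t h
      subst e₁ e₂
      simpa using h
    rw [hbm]
    exact key _ _ _ z t hz1

/-- Being twisted is fppf local on the base. -/
theorem isTwisted_of_cover (h𝒳 : FibCat.IsFibGrpd 𝒳.p) (χ : A ⟶ TwSh.GmPsh S) (d : ℤ) (ι : TwSh.BandHom 𝒳 A)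
    (hι : ∀ (ξ : 𝒳.obj) (a : A.obj (op (𝒳.p.obj ξ))), π.map (ι.hom ξ a).hom.1 = 𝟙 _) (I : Type u)
    (η : I → (AlgSt.ofSch X).obj) (hfl : ∀ i, Flat (η i).sec.down.left)
    (hfp : ∀ i, LocallyOfFinitePresentation (η i).sec.down.left)
    (hcov : ∀ x : X.left, ∃ i, x ∈ Set.range (η i).sec.down.left.base) (F : StMod.QCoh 𝒳)
    (h : ∀ i, TwSh.IsTwisted (StMod.Mod.comap (StMod.fibFst π (η i)) F.obj) (TwSh.BandHom.fib π (η i) ι hι) χ d) :
    TwSh.IsTwisted F.obj ι χ d := by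
  rw [TwSh.isTwisted_iff_inert_eq]
  intro ξ a
  choose ξ' φ α hP hrange using fun i : I =>
    haveI := hfl i
    haveI := hfp i
    exists_fibre_piece (π := π) h𝒳 (η i) ξ
  have hR : Presieve.ofArrows (fun i => StMod.sch 𝒳 (ξ' i)) (fun i => StMod.bmap 𝒳 (φ i)) ∈
      Scheme.fppfPrecoverage (StMod.sch 𝒳 ξ) := by
    refine (Scheme.ofArrows_mem_precoverage_iff (P := @Flat ⊓ @LocallyOfFinitePresentation)).mpr ⟨fun t => ?_, hP⟩
    obtain ⟨i, y, hy⟩ := hcov ((π.obj ξ).sec.down.left.base ((eqToHom (StMod.sch_obj_eq π ξ).symm).base t))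
    exact ⟨i, hrange i t y hy⟩
  refine hom_ext_of_cover (F.property.2 ξ) hR _ _ ?_
  rintro _ _ ⟨i⟩
  haveI := F.property.1 (φ i) (g := StMod.bmap 𝒳 (φ i)) rfl
  let a' := A.map (𝒳.p.map (φ i)).op a
  have htw : TwSh.inert F.obj (ξ' i) (ι.hom (ξ' i) a') =
      TwSh.scalarEnd (F.obj.obj (ξ' i)) ((TwSh.charUnit χ (ξ' i) a' ^ d)⁻¹).val := by
    apply Scheme.Modules.hom_ext
    intro U
    ext s
    have k := h i (CostructuredArrow.mk (α i)) a' U s
    change (TwSh.inert (StMod.Mod.comap (StMod.fibFst π (η i)) F.obj) _ (TwSh.autOFib π (η i) (CostructuredArrow.mk (α i)) (ι.hom (ξ' i) a')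
      (hι (ξ' i) a'))).app U s = _ at k
    rw [TwSh.inert_comap_fibFst] at k
    exact k
  have key := inert_comp_map F.obj (φ i) _ _ (ι.natural (φ i) a)
  rw [show A.map (𝒳.p.map (φ i)).op a = a' from rfl, htw, charUnit_map χ d (φ i) a, ← scalarEnd_comp] at key
  have key' := congrArg ((Scheme.Modules.pullbackPushforwardAdjunction (StMod.bmap 𝒳 (φ i))).homEquiv _ _).symm key
  rw [Adjunction.homEquiv_naturality_left_symm, Adjunction.homEquiv_naturality_left_symm] at key'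
  exact (cancel_mono _).1 key'

end Groth.Agent.FppfModDesc
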